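import Mathlib

/-!
Eigencharacters of elementary abelian subgroups in representations in coprime characteristic.
-/

set_option autoImplicit false

namespace Cfsg.Agent.Lib.CrossChar

variable {L V : Type*} [Field L] [IsAlgClosed L] [AddCommGroup V] [Module L V] [FiniteDimensional L V]

/-- A commuting family of endomorphisms preserving a nonzero subspace has a common eigenvector in it. -/
theorem exists_common_eigvec {ι : Type*} (f : ι → Module.End L V) (hcomm : ∀ i j, Commute (f i) (f j))
    (s : Finset ι) (W : Submodule L V) (hW0 : W ≠ ⊥) (hW : ∀ i, ∀ v ∈ W, f i v ∈ W) :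
    ∃ v ∈ W, v ≠ 0 ∧ ∀ i ∈ s, ∃ c : L, f i v = c • v := by
  classical
  induction s using Finset.induction_on generalizing W with
  | empty =>
    obtain ⟨v, hv, hv0⟩ := W.ne_bot_iff.mp hW0
    exact ⟨v, hv, hv0, by simp⟩
  | @insert i s _ ih =>
    have : Nontrivial W := Submodule.nontrivial_iff_ne_bot.mpr hW0
    obtain ⟨c, hc⟩ := Module.End.exists_eigenvalue ((f i).restrict (hW i))
    obtain ⟨w, hw⟩ := hc.exists_hasEigenvector
    have hwc : f i w = c • (w : V) := congrArg Subtype.val hw.apply_eq_smul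
    let W' : Submodule L V := W ⊓ LinearMap.ker (f i - c • (1 : Module.End L V))
    have hW'0 : W' ≠ ⊥ := W'.ne_bot_iff.mpr ⟨w, ⟨w.2, by simp [hwc]⟩, fun h => hw.2 (Subtype.ext h)⟩
    have hW' : ∀ j, ∀ v ∈ W', f j v ∈ W' := by
      intro j v hv
      refine ⟨hW j v hv.1, ?_⟩
      have h2 := hv.2
      simp only [SetLike.mem_coe, LinearMap.mem_ker, LinearMap.sub_apply, LinearMap.smul_apply, Module.End.one_apply, sub_eq_zero] at h2 ⊢
      rw [← Module.End.mul_apply, (hcomm i j).eq, Module.End.mul_apply, h2, map_smul]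
    obtain ⟨v, hv, hv0, hs⟩ := ih W' hW'0 hW'
    refine ⟨v, hv.1, hv0, fun j hj => ?_⟩
    rcases Finset.mem_insert.mp hj with rfl | hj
    · refine ⟨c, ?_⟩
      simpa [sub_eq_zero] using hv.2
    · exact hs j hj

/-- A representation of a finite abelian group has an eigenvector whose character moves a given element. -/
theorem exists_eigvec_char {A : Type*} [AddCommGroup A] [Finite A] (φ : AddChar A (Module.End L V))
    (u : A) (p : ℕ) (hpu : p • u = 0) (hp : (p : L) ≠ 0) (hu : φ u ≠ 1) :
    ∃ (χ : AddChar A L) (v : V), v ≠ 0 ∧ (∀ a, φ a v = χ a • v) ∧ χ u ≠ 1 := by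
  classical
  have := Fintype.ofFinite A
  have hcomm : ∀ a b, Commute (φ a) (φ b) := fun a b => by
    rw [Commute, SemiconjBy, ← AddChar.map_add_eq_mul, ← AddChar.map_add_eq_mul, add_comm]
  let W := LinearMap.range (φ u - 1)
  have hW0 : W ≠ ⊥ := fun h => hu (sub_eq_zero.mp (LinearMap.range_eq_bot.mp h))
  have hW : ∀ a, ∀ v ∈ W, φ a v ∈ W := by
    rintro a _ ⟨w, rfl⟩
    refine ⟨φ a w, ?_⟩
    simp [← Module.End.mul_apply, (hcomm a u).eq]
  obtain ⟨v, hv, hv0, hev⟩ := exists_common_eigvec φ hcomm Finset.univ W hW0 hW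
  choose c hc using fun a => hev a (Finset.mem_univ a)
  let χ : AddChar A L :=
    { toFun := c
      map_zero_eq_one' := smul_left_injective L hv0 (by simp [← hc 0])
      map_add_eq_mul' := fun a b => smul_left_injective L hv0 (by
        show c (a + b) • v = (c a * c b) • v
        rw [← hc (a + b), AddChar.map_add_eq_mul, Module.End.mul_apply, hc b, map_smul, hc a, smul_smul, mul_comm]) }
  refine ⟨χ, v, hv0, hc, fun h1 => ?_⟩
  obtain ⟨w, rfl⟩ := hv
  have hpow : φ u ^ p = 1 := by rw [← AddChar.map_nsmul_eq_pow, hpu, AddChar.map_zero_eq_one]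
  have hkill : (∑ i ∈ Finset.range p, φ u ^ i) ((φ u - 1) w) = 0 := by
    rw [← Module.End.mul_apply, geom_sum_mul, hpow, sub_self, LinearMap.zero_apply]
  have hfix : ∀ i : ℕ, (φ u ^ i) ((φ u - 1) w) = (φ u - 1) w := by
    intro i
    induction i with
    | zero => simp
    | succ i ih => rw [pow_succ, Module.End.mul_apply, hc u, show c u = 1 from h1, one_smul, ih]
  rw [LinearMap.sum_apply, Finset.sum_congr rfl (fun i _ => hfix i), Finset.sum_const, Finset.card_range,
    ← Nat.cast_smul_eq_nsmul L] at hkill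
  exact hv0 ((smul_eq_zero.mp hkill).resolve_left hp)

/-- Distinct characters having eigenvectors number at most the dimension. -/
theorem card_le_finrank {A : Type*} [AddCommGroup A] [Finite A] (φ : AddChar A (Module.End L V))
    (hA : ((Nat.card A : ℕ) : L) ≠ 0) (S : Finset (AddChar A L))
    (hS : ∀ χ ∈ S, ∃ v : V, v ≠ 0 ∧ ∀ a, φ a v = χ a • v) : S.card ≤ Module.finrank L V := by
  classical
  have := Fintype.ofFinite A
  choose v hv0 hv using hS
  have hli : LinearIndependent L (fun χ : S => v χ χ.2) := by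
    rw [Fintype.linearIndependent_iff]
    intro g hg χ
    have h := congrArg (fun x => (∑ a, χ.1 (-a) • φ a : Module.End L V) x) hg
    rw [map_zero, map_sum, Finset.sum_eq_single χ] at h
    · rw [map_smul, LinearMap.sum_apply, Finset.sum_congr rfl (fun a _ => show (χ.1 (-a) • φ a) (v χ χ.2) = v χ χ.2 by
        rw [LinearMap.smul_apply, hv χ χ.2 a, smul_smul, ← AddChar.map_add_eq_mul, neg_add_cancel,
          AddChar.map_zero_eq_one, one_smul]), Finset.sum_const, Finset.card_univ, ← Nat.card_eq_fintype_card,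
        ← Nat.cast_smul_eq_nsmul L, smul_smul] at h
      exact (mul_eq_zero.mp ((smul_eq_zero.mp h).resolve_right (hv0 χ χ.2))).resolve_right hA
    · intro ψ _ hψ
      rw [map_smul, LinearMap.sum_apply]
      have h1 : ∑ a, (χ.1 (-a) • φ a) (v ψ ψ.2) = (∑ a, (χ.1⁻¹ * ψ.1) a) • v ψ ψ.2 := by
        rw [Finset.sum_smul]
        refine Finset.sum_congr rfl fun a _ => ?_
        rw [LinearMap.smul_apply, hv ψ ψ.2 a, smul_smul, AddChar.mul_apply, AddChar.inv_apply]
      rw [h1, AddChar.sum_eq_zero_of_ne_one, zero_smul, smul_zero]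
      intro h2
      exact hψ (Subtype.ext (inv_mul_eq_one.mp h2).symm)
    · simp
  simpa using hli.fintype_card_le_finrank

variable {F : Type*} [Field F] [Fintype F] {m : ℕ}

omit [IsAlgClosed L] in
/-- The character `a ↦ ψ (b · a)`. -/
def dualChar (ψ : AddChar F L) (b : Fin m → F) : AddChar (Fin m → F) L where
  toFun a := ψ (b ⬝ᵥ a)
  map_zero_eq_one' := by simp
  map_add_eq_mul' x y := by simp [dotProduct_add, AddChar.map_add_eq_mul]

omit [IsAlgClosed L] in
theorem dualChar_apply (ψ : AddChar F L) (b a : Fin m → F) : dualChar ψ b a = ψ (b ⬝ᵥ a) := rfl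

omit [IsAlgClosed L] in
theorem dualChar_injective (ψ : AddChar F L) (hψ : ψ ≠ 1) : Function.Injective (dualChar (m := m) ψ) := by
  classical
  obtain ⟨s, hs⟩ := AddChar.ne_one_iff.mp hψ
  intro b b' h
  by_contra hne
  obtain ⟨i, hi⟩ := Function.ne_iff.mp hne
  have h1 := DFunLike.congr_fun h (Pi.single i (s / (b i - b' i)))
  simp only [dualChar_apply, dotProduct_single] at h1
  apply hs
  have h2 : b i * (s / (b i - b' i)) = b' i * (s / (b i - b' i)) + s := by
    have := sub_ne_zero.mpr hi
    field_simp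
    ring
  rw [h2, AddChar.map_add_eq_mul] at h1
  exact (mul_eq_left₀ ((ψ.val_isUnit _).ne_zero)).mp h1

omit [IsAlgClosed L] in
/-- Every character of `Fⁿ` is `a ↦ ψ (b · a)`. -/
theorem dualChar_surjective (ψ : AddChar F L) (hψ : ψ ≠ 1) : Function.Surjective (dualChar (m := m) ψ) := by
  classical
  have h1 : LinearIndependent L (fun χ : AddChar (Fin m → F) L => (χ : (Fin m → F) → L)) :=
    (linearIndependent_monoidHom (Multiplicative (Fin m → F)) L).comp AddChar.toMonoidHom
      (fun χ χ' h => DFunLike.ext χ χ' fun a => DFunLike.congr_fun h (Multiplicative.ofAdd a))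
  have : Finite (AddChar (Fin m → F) L) := h1.finite
  have := Fintype.ofFinite (AddChar (Fin m → F) L)
  have hle : Fintype.card (AddChar (Fin m → F) L) ≤ Fintype.card (Fin m → F) := by
    have := h1.fintype_card_le_finrank
    rwa [Module.finrank_fintype_fun_eq_card] at this
  have hinj := dualChar_injective (m := m) ψ hψ
  exact (Fintype.bijective_iff_injective_and_card _).mpr
    ⟨hinj, le_antisymm (Fintype.card_le_of_injective _ hinj) hle⟩ |>.2

end Cfsg.Agent.Lib.CrossChar
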